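import Mathlib

/-!
# Sections of a filtered colimit of sheaves of sets
-/

set_option autoImplicit false

universe u

namespace Groth.SheafColim

open CategoryTheory CategoryTheory.Limits TopologicalSpace Opposite

variable {X : TopCat.{u}} {J : Type u} [Preorder J] [Nonempty J] [IsDirected J (· ≤ ·)]
  {F : J ⥤ X.Sheaf (Type u)} {c : Cocone F} (hc : IsColimit c)

/-- Restriction to a smaller open. -/
abbrev res {G : X.Sheaf (Type u)} {U V : Opens X} (h : V ≤ U) (s : G.obj.obj (op U)) :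
    G.obj.obj (op V) :=
  G.obj.map (homOfLE h).op s

theorem res_res {G : X.Sheaf (Type u)} {U V W : Opens X} (h : V ≤ U) (h' : W ≤ V)
    (s : G.obj.obj (op U)) : res h' (res h s) = res (h'.trans h) s := by
  rw [res, res, ← ConcreteCategory.comp_apply, ← Functor.map_comp]
  rfl

theorem res_app {G G' : X.Sheaf (Type u)} (φ : G ⟶ G') {U V : Opens X} (h : V ≤ U)
    (s : G.obj.obj (op U)) : res h (φ.hom.app (op U) s) = φ.hom.app (op V) (res h s) :=
  (NatTrans.naturality_apply φ.hom (homOfLE h).op s).symm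

theorem map_map {i j k : J} (f : i ⟶ j) (g : j ⟶ k) {U : Opens X} (s : (F.obj i).obj.obj (op U)) :
    (F.map g).hom.app (op U) ((F.map f).hom.app (op U) s) = (F.map (f ≫ g)).hom.app (op U) s := by
  rw [F.map_comp]
  rfl

include hc

theorem stalk_isColimit (x : X) : Nonempty (IsColimit
    ((TopCat.Sheaf.forget (Type u) X ⋙ TopCat.Presheaf.stalkFunctor (Type u) x).mapCocone c)) := by
  classical
  haveI : PreservesColimitsOfSize.{u, u}
      (TopCat.Sheaf.forget (Type u) X ⋙ TopCat.Presheaf.stalkFunctor (Type u) x) :=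
    (stalkSkyscraperSheafAdjunction x).leftAdjoint_preservesColimits
  exact ⟨isColimitOfPreserves _ hc⟩

/-- Sections come from a stage, locally. -/
theorem exists_local {U : Opens X} (t : c.pt.obj.obj (op U)) (x : X) (hx : x ∈ U) :
    ∃ (i : J) (V : Opens X) (hVU : V ≤ U) (s : (F.obj i).obj.obj (op V)),
      x ∈ V ∧ (c.ι.app i).hom.app (op V) s = res hVU t := by
  obtain ⟨h⟩ := stalk_isColimit hc x
  obtain ⟨i, a, ha⟩ := Types.jointly_surjective_of_isColimit h (c.pt.presheaf.germ U x hx t)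
  obtain ⟨W, hxW, s, rfl⟩ := (F.obj i).presheaf.exists_germ_eq a
  have ha' : c.pt.presheaf.germ W x hxW ((c.ι.app i).hom.app (op W) s) =
      c.pt.presheaf.germ U x hx t :=
    (TopCat.Presheaf.stalkFunctor_map_germ_apply W x hxW (c.ι.app i).hom s).symm.trans ha
  obtain ⟨V, hxV, i₁, i₂, e⟩ := c.pt.presheaf.germ_eq x hxW hx _ _ ha'
  refine ⟨i, V, i₂.le, res i₁.le s, hxV, ?_⟩
  rw [← res_app]
  exact e

/-- Equality in the colimit is, locally, equality at some stage. -/
theorem local_eq {i : J} {U : Opens X} (s t : (F.obj i).obj.obj (op U))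
    (h : (c.ι.app i).hom.app (op U) s = (c.ι.app i).hom.app (op U) t) (x : X) (hx : x ∈ U) :
    ∃ (j : J) (f : i ⟶ j) (V : Opens X) (hVU : V ≤ U), x ∈ V ∧
      (F.map f).hom.app (op V) (res hVU s) = (F.map f).hom.app (op V) (res hVU t) := by
  obtain ⟨hcol⟩ := stalk_isColimit hc x
  have hs : (TopCat.Presheaf.stalkFunctor (Type u) x).map (c.ι.app i).hom
      ((F.obj i).presheaf.germ U x hx s) = (TopCat.Presheaf.stalkFunctor (Type u) x).map
      (c.ι.app i).hom ((F.obj i).presheaf.germ U x hx t) :=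
    (TopCat.Presheaf.stalkFunctor_map_germ_apply U x hx (c.ι.app i).hom s).trans
      ((congrArg _ h).trans (TopCat.Presheaf.stalkFunctor_map_germ_apply U x hx (c.ι.app i).hom t).symm)
  obtain ⟨j, f, e⟩ := (Types.FilteredColimit.isColimit_eq_iff'
    (F := F ⋙ TopCat.Sheaf.forget (Type u) X ⋙ TopCat.Presheaf.stalkFunctor (Type u) x) hcol _ _).1 hs
  have e' : (F.obj j).presheaf.germ U x hx ((F.map f).hom.app (op U) s) =
      (F.obj j).presheaf.germ U x hx ((F.map f).hom.app (op U) t) :=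
    (TopCat.Presheaf.stalkFunctor_map_germ_apply U x hx (F.map f).hom s).symm.trans
      (e.trans (TopCat.Presheaf.stalkFunctor_map_germ_apply U x hx (F.map f).hom t))
  obtain ⟨V, hxV, i₁, i₂, e''⟩ := (F.obj j).presheaf.germ_eq x hx hx _ _ e'
  refine ⟨j, f, V, i₁.le, hxV, ?_⟩
  rw [← res_app, ← res_app]
  exact e''

/-- Injective transition maps. -/
theorem eq_of_injective
    (hinj : ∀ (i j : J) (h : i ⟶ j) (V : Opens X), Function.Injective ((F.map h).1.app (op V)))
    {i : J} {U : Opens X} (s t : (F.obj i).obj.obj (op U))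
    (h : (c.ι.app i).hom.app (op U) s = (c.ι.app i).hom.app (op U) t) : s = t := by
  choose j f V hVU hxV e using local_eq hc s t h
  refine TopCat.Sheaf.eq_of_locally_eq' (F.obj i) (fun x : U => V x.1 x.2) U
    (fun x => homOfLE (hVU x.1 x.2)) (fun x hx => Opens.mem_iSup.mpr ⟨⟨x, hx⟩, hxV x hx⟩) s t
    fun x => hinj _ _ (f x.1 x.2) _ (e x.1 x.2)

/-- Quasi-compact opens. -/
theorem eq_of_compact {i : J} {U : Opens X} (hU : IsCompact (U : Set X))
    (s t : (F.obj i).obj.obj (op U))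
    (h : (c.ι.app i).hom.app (op U) s = (c.ι.app i).hom.app (op U) t) :
    ∃ (j : J) (f : i ⟶ j), (F.map f).hom.app (op U) s = (F.map f).hom.app (op U) t := by
  classical
  choose j f V hVU hxV e using local_eq hc s t h
  obtain ⟨T, hT⟩ := hU.elim_finite_subcover (fun x : U => (V x.1 x.2 : Set X))
    (fun x => (V x.1 x.2).2) fun x hx => Set.mem_iUnion.mpr ⟨⟨x, hx⟩, hxV x hx⟩
  obtain ⟨k, hk⟩ := Finset.exists_le (insert i (T.image fun x : U => j x.1 x.2))
  refine ⟨k, homOfLE (hk _ (Finset.mem_insert_self _ _)), ?_⟩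
  refine TopCat.Sheaf.eq_of_locally_eq' (F.obj k) (fun x : T => V x.1.1 x.1.2) U
    (fun x => homOfLE (hVU x.1.1 x.1.2)) (fun y hy => ?_) _ _ fun x => ?_
  · obtain ⟨x, hxT, hyx⟩ := Set.mem_iUnion₂.mp (hT hy)
    exact Opens.mem_iSup.mpr ⟨⟨x, hxT⟩, hyx⟩
  · have hjk : j x.1.1 x.1.2 ≤ k :=
      hk _ (Finset.mem_insert_of_mem (Finset.mem_image_of_mem _ x.2))
    change res (hVU x.1.1 x.1.2) _ = res (hVU x.1.1 x.1.2) _
    rw [res_app, res_app, show homOfLE (hk i (Finset.mem_insert_self _ _)) =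
      f x.1.1 x.1.2 ≫ homOfLE hjk from Subsingleton.elim _ _, ← map_map, ← map_map,
      e x.1.1 x.1.2]

/-- Gluing over a finite covering, given equality on overlaps at later stages. -/
theorem exists_stage {U : Opens X} (t : c.pt.obj.obj (op U)) {ι : Type u} [Finite ι] (W : ι → Opens X)
    (hW : ∀ a, W a ≤ U) (hcov : U ≤ iSup W) (i : ι → J) (s : ∀ a, (F.obj (i a)).obj.obj (op (W a)))
    (hs : ∀ a, (c.ι.app (i a)).hom.app (op (W a)) (s a) = res (hW a) t)
    (heq : ∀ (k : J) (a b : ι) (s₁ s₂ : (F.obj k).obj.obj (op (W a ⊓ W b))),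
      (c.ι.app k).hom.app _ s₁ = (c.ι.app k).hom.app _ s₂ →
      ∃ (l : J) (f : k ⟶ l), (F.map f).hom.app _ s₁ = (F.map f).hom.app _ s₂) :
    ∃ (k : J) (r : (F.obj k).obj.obj (op U)), (c.ι.app k).hom.app (op U) r = t := by
  classical
  haveI := Fintype.ofFinite ι
  have hw : ∀ (a : ι) (k : J) (h : i a ≤ k), (c.ι.app k).hom.app (op (W a))
      ((F.map (homOfLE h)).hom.app (op (W a)) (s a)) = res (hW a) t := by
    intro a k h
    rw [← hs a, ← c.w (homOfLE h)]
    rfl
  obtain ⟨k, hk⟩ := Finset.exists_le (Finset.univ.image i)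
  have hik : ∀ a, i a ≤ k := fun a => hk _ (Finset.mem_image_of_mem _ (Finset.mem_univ a))
  have hov : ∀ p : ι × ι, ∃ (l : J) (f : k ⟶ l),
      (F.map f).hom.app _ (res (inf_le_left : W p.1 ⊓ W p.2 ≤ W p.1)
          ((F.map (homOfLE (hik p.1))).hom.app _ (s p.1))) =
        (F.map f).hom.app _ (res (inf_le_right : W p.1 ⊓ W p.2 ≤ W p.2)
          ((F.map (homOfLE (hik p.2))).hom.app _ (s p.2))) := fun p => by
    refine heq k p.1 p.2 _ _ ?_
    rw [← res_app, ← res_app, hw, hw, res_res, res_res]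
  choose l f e using hov
  obtain ⟨m, hm⟩ := Finset.exists_le (insert k (Finset.univ.image l))
  have hkm : k ≤ m := hm _ (Finset.mem_insert_self _ _)
  obtain ⟨r, hr, -⟩ := TopCat.Sheaf.existsUnique_gluing' (F.obj m) W U
    (fun a => homOfLE (hW a)) hcov (fun a => (F.map (homOfLE ((hik a).trans hkm))).hom.app _ (s a))
    fun a b => by
      have hlm : l (a, b) ≤ m :=
        hm _ (Finset.mem_insert_of_mem (Finset.mem_image_of_mem _ (Finset.mem_univ _)))
      change res (inf_le_left : W a ⊓ W b ≤ W a) _ = res (inf_le_right : W a ⊓ W b ≤ W b) _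
      rw [res_app, res_app,
        show homOfLE ((hik a).trans hkm) = homOfLE (hik a) ≫ f (a, b) ≫ homOfLE hlm from
          Subsingleton.elim _ _,
        show homOfLE ((hik b).trans hkm) = homOfLE (hik b) ≫ f (a, b) ≫ homOfLE hlm from
          Subsingleton.elim _ _, ← map_map, ← map_map, ← map_map, ← map_map]
      have := e (a, b)
      rw [res_app, res_app] at this
      rw [this]
  refine ⟨m, r, ?_⟩
  refine TopCat.Sheaf.eq_of_locally_eq' c.pt W U (fun a => homOfLE (hW a)) hcov _ _ fun a => ?_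
  change res (hW a) _ = res (hW a) t
  rw [res_app, show res (hW a) r = _ from hr a, hw]

/-- Finitely many stages suffice on a compact open. -/
theorem finite_local {U : Opens X} (hU : IsCompact (U : Set X)) (t : c.pt.obj.obj (op U)) :
    ∃ (ι : Type u) (_ : Finite ι) (W : ι → Opens X) (hW : ∀ a, W a ≤ U) (_ : U ≤ iSup W)
      (i : ι → J) (s : ∀ a, (F.obj (i a)).obj.obj (op (W a))),
      ∀ a, (c.ι.app (i a)).hom.app (op (W a)) (s a) = res (hW a) t := by
  classical
  choose i V hVU s hxV e using exists_local hc t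
  obtain ⟨T, hT⟩ := hU.elim_finite_subcover (fun x : U => (V x.1 x.2 : Set X))
    (fun x => (V x.1 x.2).2) fun x hx => Set.mem_iUnion.mpr ⟨⟨x, hx⟩, hxV x hx⟩
  refine ⟨T, inferInstance, fun x => V x.1.1 x.1.2, fun x => hVU x.1.1 x.1.2, fun y hy => ?_,
    fun x => i x.1.1 x.1.2, fun x => s x.1.1 x.1.2, fun x => e x.1.1 x.1.2⟩
  obtain ⟨x, hxT, hyx⟩ := Set.mem_iUnion₂.mp (hT hy)
  exact Opens.mem_iSup.mpr ⟨⟨x, hxT⟩, hyx⟩

theorem main (U : Opens X) :
    let ev := TopCat.Sheaf.forget (Type u) X ⋙ (evaluation (Opens X)ᵒᵖ (Type u)).obj (op U)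
    let Ψ : colimit (F ⋙ ev) → ev.obj c.pt := colimit.desc (F ⋙ ev) (ev.mapCocone c)
    ((∀ (i j : J) (h : i ⟶ j) (V : Opens X), Function.Injective ((F.map h).1.app (op V))) → Function.Injective Ψ) ∧
    (IsCompact (U : Set X) → Function.Injective Ψ) ∧
    (IsCompact (U : Set X) → (∀ (i j : J) (h : i ⟶ j) (V : Opens X), Function.Injective ((F.map h).1.app (op V))) →
      Function.Bijective Ψ) ∧
    ((∀ 𝒱 : Set (Opens X), (⨆ V ∈ 𝒱, V) = U →
        ∃ (m : ℕ) (W : Fin m → Opens X), (∀ j, ∃ V ∈ 𝒱, W j ≤ V) ∧ (⨆ j, W j) = U ∧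
          ∀ j j', IsCompact ((W j ⊓ W j' : Opens X) : Set X)) →
      Function.Bijective Ψ) := by
  intro ev Ψ
  have hΨ : ∀ i (s : ev.obj (F.obj i)), Ψ (colimit.ι (F ⋙ ev) i s) = (c.ι.app i).hom.app (op U) s :=
    fun i s => ConcreteCategory.congr_hom (colimit.ι_desc (ev.mapCocone c) i) s
  have hinjOf : (∀ (k : J) (s t : (F.obj k).obj.obj (op U)),
      (c.ι.app k).hom.app _ s = (c.ι.app k).hom.app _ t →
        ∃ (l : J) (f : k ⟶ l), (F.map f).hom.app _ s = (F.map f).hom.app _ t) →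
      Function.Injective Ψ := by
    intro h a b hab
    obtain ⟨i, s, rfl⟩ := Types.jointly_surjective_of_isColimit (colimit.isColimit (F ⋙ ev)) a
    obtain ⟨j, t, rfl⟩ := Types.jointly_surjective_of_isColimit (colimit.isColimit (F ⋙ ev)) b
    obtain ⟨k, hik, hjk⟩ := exists_ge_ge i j
    have hs := ConcreteCategory.congr_hom (colimit.w (F ⋙ ev) (homOfLE hik)) s
    have ht := ConcreteCategory.congr_hom (colimit.w (F ⋙ ev) (homOfLE hjk)) t
    change colimit.ι (F ⋙ ev) k _ = _ at hs ht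
    change Ψ (colimit.ι (F ⋙ ev) i s) = Ψ (colimit.ι (F ⋙ ev) j t) at hab
    change colimit.ι (F ⋙ ev) i s = colimit.ι (F ⋙ ev) j t
    rw [← hs, ← ht] at hab ⊢
    rw [hΨ, hΨ] at hab
    obtain ⟨l, f, e⟩ := h k _ _ hab
    refine (ConcreteCategory.congr_hom (colimit.w (F ⋙ ev) f) _).symm.trans ?_
    refine Eq.trans ?_ (ConcreteCategory.congr_hom (colimit.w (F ⋙ ev) f) _)
    exact congrArg (colimit.ι (F ⋙ ev) l) e
  have h1 : (∀ (i j : J) (h : i ⟶ j) (V : Opens X), Function.Injective ((F.map h).1.app (op V))) →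
      Function.Injective Ψ := fun hinj => hinjOf fun k s t e =>
    ⟨k, 𝟙 k, congrArg _ (eq_of_injective hc hinj s t e)⟩
  have h2 : IsCompact (U : Set X) → Function.Injective Ψ := fun hU => hinjOf fun k s t e =>
    eq_of_compact hc hU s t e
  have hsurj : ∀ t, (∃ (k : J) (r : (F.obj k).obj.obj (op U)), (c.ι.app k).hom.app (op U) r = t) →
      ∃ a, Ψ a = t := fun t ⟨k, r, e⟩ => ⟨colimit.ι (F ⋙ ev) k r, (hΨ k r).trans e⟩
  refine ⟨h1, h2, fun hU hinj => ⟨h1 hinj, fun t => hsurj t ?_⟩, fun hcond => ?_⟩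
  · obtain ⟨ι, _, W, hW, hcov, i, s, hs⟩ := finite_local hc hU t
    exact exists_stage hc t W hW hcov i s hs fun k a b s₁ s₂ e =>
      ⟨k, 𝟙 k, congrArg _ (eq_of_injective hc hinj s₁ s₂ e)⟩
  · have hU : IsCompact (U : Set X) := by
      obtain ⟨m, W, -, hWU, hWc⟩ := hcond {U} (by simp)
      rw [← hWU, Opens.coe_iSup]
      exact isCompact_iUnion fun j => by simpa using hWc j j
    refine ⟨h2 hU, fun t => hsurj t ?_⟩
    choose i V hVU s hxV e using exists_local hc t
    obtain ⟨m, W, hWV, hWU, hWc⟩ := hcond (Set.range fun x : U => V x.1 x.2) (by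
      rw [iSup_range]
      exact le_antisymm (iSup_le fun x => hVU x.1 x.2)
        fun x hx => Opens.mem_iSup.mpr ⟨⟨x, hx⟩, hxV x hx⟩)
    have hWV' : ∀ j, ∃ x : U, W j ≤ V x.1 x.2 := fun j => by
      obtain ⟨_, ⟨x, rfl⟩, h⟩ := hWV j
      exact ⟨x, h⟩
    choose x hx using hWV'
    refine exists_stage hc t (ι := ULift.{u} (Fin m)) (fun a => W a.down)
      (fun a => hWU ▸ le_iSup W a.down) (fun y hy => ?_)
      (fun a => i (x a.down).1 (x a.down).2) (fun a => res (hx a.down) (s _ _)) (fun a => ?_)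
      fun k a b s₁ s₂ h => eq_of_compact hc (hWc a.down b.down) s₁ s₂ h
    · obtain ⟨a, ha⟩ := Opens.mem_iSup.mp (hWU.ge hy)
      exact Opens.mem_iSup.mpr ⟨⟨a⟩, ha⟩
    · rw [← res_app, e]; exact res_res _ _ _

end Groth.SheafColim
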